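import Cfsg.Agent.Lib.KleinBlock.Four
import Cfsg.Agent.Lib.Char.OddDegree
import Cfsg.Agent.Lib.BlockCount.Criterion
import Cfsg.Agent.Lib.CharInt.Congruence

/-!
# The principal block of the shape of `PSL(2, q)` for `q ≡ 3 (mod 4)` or `q ≡ 1 (mod 4)`

The Frobenius–Schur count at the 2-section of an involution shows that two of the characters are
complex conjugate when one of the values at the involution is `-1`.
-/

set_option autoImplicit false
set_option linter.style.haveILetI false
set_option linter.unusedSectionVars false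

namespace Cfsg.Agent.KleinBlock

open Cfsg
open scoped ComplexConjugate

universe u

variable {G : Type u} [Group G] [Fintype G] {J : G}

/-- The degree of a character is odd if its value at an involution is `±1`. -/
theorem odd_charDegree (hJ : orderOf J = 2) (χ : IrrCharacter G) {ε : ℤ} (hε : ε = 1 ∨ ε = -1)
    (hval : χ.1 J = ε) : Odd (charDegree χ.1) := by
  classical
  obtain ⟨n, μ, h1, hμ, hpow⟩ := CharInt.exists_roots (Char.irr_isCharacter χ) J
  have hn : charDegree χ.1 = n := by
    have h : (charDegree χ.1 : ℂ) = n := by rw [Char.charDegree_cast, h1]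
    exact_mod_cast h
  have hsum := hpow 1
  simp only [pow_one] at hsum
  rw [hval, Finset.sum_congr rfl fun i _ => show μ i =
    (((1 : ℤ) - 2 * (if μ i = -1 then 1 else 0) : ℤ) : ℂ) from ?_, ← Int.cast_sum] at hsum
  · have h2 : ε = ∑ i : Fin n, ((1 : ℤ) - 2 * (if μ i = -1 then 1 else 0)) := by exact_mod_cast hsum
    rw [Finset.sum_sub_distrib, ← Finset.mul_sum] at h2
    simp only [Finset.sum_const, Finset.card_univ, Fintype.card_fin, nsmul_eq_mul, mul_one] at h2
    rw [hn, Nat.odd_iff]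
    rcases hε with rfl | rfl <;> omega
  · have h := hμ i
    rw [hJ, sq_eq_one_iff] at h
    rcases h with h | h <;> rw [h] <;> norm_num

/-- The principal block is closed under complex conjugation. -/
theorem conjIrr_mem_principalBlock {M : Ideal AlgInt} (hM : IsPModular 2 M) {χ : IrrCharacter G}
    (h : χ ∈ principalBlock M G) : Char.conjIrr χ ∈ principalBlock M G := by
  haveI : Fact (Nat.Prime 2) := ⟨Nat.prime_two⟩
  rw [BlockCount.mem_principalBlock_iff hM] at h ⊢
  intro h0
  refine h ?_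
  have h1 := congrArg (starRingEnd ℂ) h0
  simp only [BlockCount.pregSum, map_sum, map_zero, Char.conjIrr_apply, Complex.conj_conj] at h1
  exact h1

namespace Data

variable (d : Data J)

theorem sqRootCount_mul_eq_zero {v : G} (hv : v ∈ d.N) : Char.sqRootCount (J * v) = 0 := by
  rw [Char.sqRootCount, Nat.cast_eq_zero]
  haveI : IsEmpty {g : G // g * g = J * v} := ⟨fun ⟨g, hg⟩ => by
    have hco : (Nat.card d.N).Coprime (orderOf J) := by
      rw [d.hJ]; exact Nat.coprime_two_right.2 d.oddN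
    obtain ⟨n, hn⟩ := GlauCyclic.mul_pow_eq_self hco
    have hJv : Commute J v := ((d.mem_N v).1 hv).1
    have hpow : (J * v) ^ n = J := by rw [hJv.eq]; exact hn v hv hJv.symm
    have hgJ : Commute J g := by
      rw [← hpow, ← hg]
      exact ((Commute.refl g).mul_left (Commute.refl g)).pow_left n
    obtain ⟨q, hq, w, hw, hgqw⟩ := d.decomp g hgJ
    have hqinv : q⁻¹ = q := inv_eq_of_mul_eq_one_right (d.sq q hq)
    have hmem : g * g ∈ d.N := by
      rw [hgqw, ← mul_assoc]
      refine mul_mem ?_ hw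
      have h := d.conjN q (d.comm J d.jmem q hq) w hw
      rwa [hqinv] at h
    have hJN : J ∈ d.N := by
      have h := mul_mem hmem (d.N.inv_mem hv)
      rw [hg, mul_inv_cancel_right] at h
      exact h
    have h1 := Subgroup.disjoint_def.1 d.disjoint d.jmem hJN
    have h2 := d.hJ
    rw [h1, orderOf_one] at h2
    omega⟩
  exact Nat.card_of_isEmpty

/-- The indicators of the principal block weighted by the values at `J` cancel. -/
theorem indicator_relation (d : Data J) {M : Ideal AlgInt} (hM : IsPModular 2 M)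
    [DecidablePred (· ∈ principalBlock M G)] :
    ∑ χ ∈ Finset.univ.filter (· ∈ principalBlock M G), Char.fsIndicator χ.1 * χ.1 J = 0 := by
  classical
  have hk : ∃ k : ℕ, orderOf J = 2 ^ k := ⟨1, by rw [d.hJ, pow_one]⟩
  have h : ∑ v ∈ ZStar.oddCentralizing J, Char.sqRootCount (J * v) = 0 :=
    Finset.sum_eq_zero fun v hv =>
      d.sqRootCount_mul_eq_zero ((d.mem_N v).2 (by rwa [ZStar.mem_oddCentralizing] at hv))
  simp only [Char.sqRootCount_eq_sum] at h
  rw [Finset.sum_comm] at h
  simp only [← Finset.mul_sum] at h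
  have hN : (Nat.card d.N : ℂ) ≠ 0 := Char.card_ne_zero
  rw [← mul_right_inj' hN, mul_zero, ← h, Finset.mul_sum, Finset.sum_filter]
  refine Finset.sum_congr rfl fun χ _ => ?_
  have hs := ZStar.sum_oddCentralizing_apply ZStar.secondPrincipal hM hk d.mem_N χ
  split_ifs with hχ
  · rw [hs.1 hχ, d.card_oddCentralizing]; ring
  · rw [hs.2 hχ, mul_zero]

end Data

namespace FourBlock

variable {M : Ideal AlgInt} (b : FourBlock M J)

theorem degree_eq_of_neg (d : Data J) (hM : IsPModular 2 M) (h1 : b.ε₁ = 1) (h2 : b.ε₂ = 1)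
    (h3 : b.ε₃ = -1) : charDegree b.χ₁.1 = charDegree b.χ₂.1 := by
  classical
  have hmem : ∀ χ, (χ = b.χ₁ ∨ χ = b.χ₂ ∨ χ = b.χ₃) → χ ∈ principalBlock M G := by
    intro χ h
    rw [b.hB]
    exact Or.inr h
  have v1 : b.χ₁.1 J = 1 := by rw [b.hval.1, h1, Int.cast_one]
  have v2 : b.χ₂.1 J = 1 := by rw [b.hval.2.1, h2, Int.cast_one]
  have v3 : b.χ₃.1 J = -1 := by rw [b.hval.2.2, h3, Int.cast_neg, Int.cast_one]
  have vc : ∀ χ : IrrCharacter G, (Char.conjIrr χ).1 J = conj (χ.1 J) := fun χ => rfl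
  have hne : (-1 : ℂ) ≠ 1 := by norm_num
  have hc3 : Char.conjIrr b.χ₃ = b.χ₃ := by
    have hv : (Char.conjIrr b.χ₃).1 J = -1 := by rw [vc, v3, map_neg, map_one]
    rcases b.mem_principal (conjIrr_mem_principalBlock hM (hmem _ (Or.inr (Or.inr rfl))))
      with h | h | h | h
    · rw [h] at hv; exact absurd hv.symm hne
    · rw [h, v1] at hv; exact absurd hv.symm hne
    · rw [h, v2] at hv; exact absurd hv.symm hne
    · exact h
  have hν3 : Char.fsIndicator b.χ₃.1 = 1 := by
    rcases Char.fsIndicator_of_real b.χ₃ ((Char.conjIrr_eq_self_iff _).1 hc3) with h | h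
    · exact h
    · exact absurd h (Char.fsIndicator_ne_neg_one_of_odd _ (odd_charDegree d.hJ _ b.hε.2.2 b.hval.2.2))
  have hrel := d.indicator_relation hM
  rw [b.sum_block fun χ => Char.fsIndicator χ.1 * χ.1 J] at hrel
  have hν0 : Char.fsIndicator (Char.trivialChar G).1 = 1 := by
    rw [Char.fsIndicator_eq_sum, show (fun g : G => (Char.trivialChar G).1 (g * g)) =
      fun _ => (1 : ℂ) from rfl, Finset.sum_const, Finset.card_univ, nsmul_eq_mul, mul_one,
      ← Nat.card_eq_fintype_card, inv_mul_cancel₀ Char.card_ne_zero]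
  rw [hν0, hν3, v1, v2, v3, show (Char.trivialChar G).1 J = 1 from rfl] at hrel
  have hnr : ¬ ∀ g, (b.χ₁.1 g).im = 0 := by
    intro hr
    rcases Char.fsIndicator_of_real b.χ₁ hr with e | e
    · have e2 : Char.fsIndicator b.χ₂.1 = -1 := by rw [e] at hrel; linear_combination hrel
      exact Char.fsIndicator_ne_neg_one_of_odd _ (odd_charDegree d.hJ _ b.hε.2.1 b.hval.2.1) e2
    · exact Char.fsIndicator_ne_neg_one_of_odd _ (odd_charDegree d.hJ _ b.hε.1 b.hval.1) e
  have hv : (Char.conjIrr b.χ₁).1 J = 1 := by rw [vc, v1, map_one]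
  rcases b.mem_principal (conjIrr_mem_principalBlock hM (hmem _ (Or.inl rfl))) with h | h | h | h
  · exfalso
    refine b.hdist.1 (funext fun g => ?_)
    rw [← Char.conjIrr_conjIrr b.χ₁, h]
    exact map_one _
  · exact absurd ((Char.conjIrr_eq_self_iff _).1 h) hnr
  · have h' : (Char.conjIrr b.χ₁).1 1 = b.χ₂.1 1 := by rw [h]
    rw [Char.conjIrr_apply, ← Char.charDegree_cast, ← Char.charDegree_cast, map_natCast] at h'
    exact_mod_cast h'
  · rw [h, v3] at hv; exact absurd hv hne

theorem dvd_index (b : FourBlock M J) (χ : IrrCharacter G) {ε : ℤ} (hε : ε = 1 ∨ ε = -1)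
    (hval : χ.1 J = ε) :
    charDegree χ.1 ∣ (Subgroup.centralizer ({J} : Set G)).index := by
  have h := Blocks.isIntegral_centralChar χ J
  rw [centralChar, hval, ← Char.charDegree_cast] at h
  rcases hε with rfl | rfl
  · rw [Int.cast_one, mul_one] at h
    exact Int.natCast_dvd_natCast.1 (CharInt.dvd_of_isIntegral_div (Char.charDegree_pos χ).ne' h)
  · rw [Int.cast_neg, Int.cast_one, mul_neg, mul_one, neg_div] at h
    have h' := h.neg
    rw [neg_neg] at h'
    exact Int.natCast_dvd_natCast.1 (CharInt.dvd_of_isIntegral_div (Char.charDegree_pos χ).ne' h')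

/-- The order in terms of `q = χ₃(1)`. -/
theorem psl_shape (d : Data J) (hM : IsPModular 2 M) (hprod : b.ε₁ * b.ε₂ * b.ε₃ = -1)
    (h3 : b.ε₃ = -1) :
    ∃ m : ℕ, 4 * Nat.card (Subgroup.centralizer ({J} : Set G)) =
        m * Nat.card (Subgroup.centralizer ((d.P : Set G))) * (charDegree b.χ₃.1 + 1) ∧
      8 * Nat.card G = m ^ 3 * Nat.card (Subgroup.centralizer ((d.P : Set G))) *
        (charDegree b.χ₃.1 ^ 3 - charDegree b.χ₃.1) := by
  classical
  have hrel := b.relation d hM
  have hx1 := Char.charDegree_pos b.χ₁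
  have hx2 := Char.charDegree_pos b.χ₂
  have hx3 := Char.charDegree_pos b.χ₃
  have h12 : b.ε₁ = 1 ∧ b.ε₂ = 1 := by
    rcases b.hε with ⟨a | a, c | c, -⟩ <;> rw [a, c, h3] at hprod hrel <;>
      first | exact ⟨a, c⟩ | (exfalso; omega) | (exfalso; norm_num at hprod)
  obtain ⟨h1, h2⟩ := h12
  have heq := b.degree_eq_of_neg d hM h1 h2 h3
  rw [h1, h2, h3] at hrel
  have hform := b.order_formula d hM
  rw [h1, h2, h3] at hform
  push_cast at hform
  have hK := Subgroup.card_mul_index (Subgroup.centralizer ({J} : Set G))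
  have hd1 := b.dvd_index b.χ₁ b.hε.1 b.hval.1
  have hd3 := b.dvd_index b.χ₃ b.hε.2.2 b.hval.2.2
  obtain ⟨a, ha⟩ : Nat.card (Subgroup.centralizer ((d.P : Set G))) ∣
      Nat.card (Subgroup.centralizer ({J} : Set G)) := by
    rw [d.card_centralizer_J, d.card_centralizer_P]
    exact Nat.mul_dvd_mul_left 4 (Subgroup.card_dvd_of_le inf_le_left)
  rw [← heq] at hrel hform
  generalize charDegree b.χ₁.1 = x at *
  generalize charDegree b.χ₃.1 = q at *
  have hcP : 0 < Nat.card (Subgroup.centralizer ((d.P : Set G))) := Nat.card_pos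
  have hcJ : 0 < Nat.card (Subgroup.centralizer ({J} : Set G)) := Nat.card_pos
  generalize Nat.card (Subgroup.centralizer ((d.P : Set G))) = cP at *
  generalize Nat.card (Subgroup.centralizer ({J} : Set G)) = cJ at *
  generalize Nat.card G = n at *
  generalize (Subgroup.centralizer ({J} : Set G)).index = K at *
  have hq : q = 2 * x + 1 := by omega
  subst hq
  subst ha
  subst hK
  have hapos : 0 < a := Nat.pos_of_mul_pos_left hcJ
  have hmain : (x + 1) ^ 2 * K = 4 * x * (2 * x + 1) * a ^ 2 := by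
    have h : ((x + 1) ^ 2 * K : ℚ) = 4 * x * (2 * x + 1) * a ^ 2 := by
      have hx : (x : ℚ) ≠ 0 := Nat.cast_ne_zero.2 hx1.ne'
      have hc : (cP : ℚ) ≠ 0 := Nat.cast_ne_zero.2 hcP.ne'
      have ha' : (a : ℚ) ≠ 0 := Nat.cast_ne_zero.2 hapos.ne'
      push_cast at hform
      apply mul_left_cancel₀ (show (2 * x * a * cP ^ 3 : ℚ) ≠ 0 by positivity)
      linear_combination hform
    exact_mod_cast h
  obtain ⟨k, rfl⟩ : x * (2 * x + 1) ∣ K := by
    refine Nat.Coprime.mul_dvd_of_dvd_of_dvd ?_ hd1 hd3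
    rw [add_comm]
    simp
  have hsq : (x + 1) ^ 2 * k = (2 * a) ^ 2 := by
    apply Nat.eq_of_mul_eq_mul_left (show 0 < x * (2 * x + 1) by positivity)
    linear_combination hmain
  obtain ⟨m, hm⟩ : x + 1 ∣ 2 * a := (Nat.pow_dvd_pow_iff (n := 2) (by norm_num)).1 ⟨k, hsq.symm⟩
  have hk : k = m ^ 2 := by
    apply Nat.eq_of_mul_eq_mul_left (show 0 < (x + 1) ^ 2 by positivity)
    rw [hsq, hm, mul_pow]
  subst hk
  have h8 : (2 * x + 1) ^ 3 - (2 * x + 1) = 4 * x * (2 * x + 1) * (x + 1) := by
    rw [show (2 * x + 1) ^ 3 = 4 * x * (2 * x + 1) * (x + 1) + (2 * x + 1) by ring,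
      Nat.add_sub_cancel]
  refine ⟨m, ?_, ?_⟩
  · linear_combination (2 * cP) * hm
  · rw [h8]
    linear_combination (4 * cP * x * (2 * x + 1) * m ^ 2) * hm

end FourBlock

end Cfsg.Agent.KleinBlock
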