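import Cfsg.Agent.Lib.KleinBlock.Order
import Cfsg.Agent.Lib.Char.KernelSum

/-!
# The order formula for a principal block with four characters of value `±1` at an involution
-/

set_option autoImplicit false
set_option linter.unusedSectionVars false

namespace Cfsg.Agent.KleinBlock

open Cfsg
open scoped ComplexConjugate

universe u

variable {G : Type u} [Group G] [Fintype G]

/-- The data of a principal block with four characters. -/
structure FourBlock (M : Ideal AlgInt) (J : G) where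
  χ₁ : IrrCharacter G
  χ₂ : IrrCharacter G
  χ₃ : IrrCharacter G
  ε₁ : ℤ
  ε₂ : ℤ
  ε₃ : ℤ
  hB : principalBlock M G =
    {χ : IrrCharacter G | (χ : G → ℂ) = (fun _ => 1) ∨ χ = χ₁ ∨ χ = χ₂ ∨ χ = χ₃}
  hdist : (χ₁ : G → ℂ) ≠ (fun _ => 1) ∧ (χ₂ : G → ℂ) ≠ (fun _ => 1) ∧
    (χ₃ : G → ℂ) ≠ (fun _ => 1) ∧ χ₁ ≠ χ₂ ∧ χ₁ ≠ χ₃ ∧ χ₂ ≠ χ₃
  hε : (ε₁ = 1 ∨ ε₁ = -1) ∧ (ε₂ = 1 ∨ ε₂ = -1) ∧ (ε₃ = 1 ∨ ε₃ = -1)
  hval : (χ₁ : G → ℂ) J = ε₁ ∧ (χ₂ : G → ℂ) J = ε₂ ∧ (χ₃ : G → ℂ) J = ε₃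

namespace FourBlock

variable {M : Ideal AlgInt} {J : G} (b : FourBlock M J)

theorem sum_block [DecidablePred (· ∈ principalBlock M G)] (f : IrrCharacter G → ℂ) :
    ∑ χ ∈ Finset.univ.filter (· ∈ principalBlock M G), f χ =
      f (Char.trivialChar G) + f b.χ₁ + f b.χ₂ + f b.χ₃ := by
  classical
  obtain ⟨h1, h2, h3, h12, h13, h23⟩ := b.hdist
  have hset : Finset.univ.filter (· ∈ principalBlock M G) =
      {Char.trivialChar G, b.χ₁, b.χ₂, b.χ₃} := by
    ext χ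
    rw [Finset.mem_filter, b.hB]
    simp only [Finset.mem_univ, true_and, Set.mem_setOf_eq, Finset.mem_insert, Finset.mem_singleton]
    constructor
    · rintro (h | h | h | h)
      · exact Or.inl (Subtype.ext h)
      · tauto
      · tauto
      · tauto
    · rintro (h | h | h | h)
      · exact Or.inl (by rw [h]; rfl)
      · tauto
      · tauto
      · tauto
  have n1 : Char.trivialChar G ≠ b.χ₁ := fun h => h1 (by rw [← h]; rfl)
  have n2 : Char.trivialChar G ≠ b.χ₂ := fun h => h2 (by rw [← h]; rfl)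
  have n3 : Char.trivialChar G ≠ b.χ₃ := fun h => h3 (by rw [← h]; rfl)
  rw [hset, Finset.sum_insert (by simp [n1, n2, n3]), Finset.sum_insert (by simp [h12, h13]),
    Finset.sum_pair h23]
  ring

theorem mem_principal {χ : IrrCharacter G} (h : χ ∈ principalBlock M G) :
    χ = Char.trivialChar G ∨ χ = b.χ₁ ∨ χ = b.χ₂ ∨ χ = b.χ₃ := by
  rw [b.hB] at h
  rcases h with h | h | h | h
  · exact Or.inl (Subtype.ext h)
  · tauto
  · tauto
  · tauto

theorem real_at (b : FourBlock M J) {χ : IrrCharacter G} (h : χ ∈ principalBlock M G) :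
    conj (χ.1 J) = χ.1 J := by
  rcases b.mem_principal h with rfl | rfl | rfl | rfl
  · change conj (1 : ℂ) = 1
    rw [map_one]
  · rw [b.hval.1, map_intCast]
  · rw [b.hval.2.1, map_intCast]
  · rw [b.hval.2.2, map_intCast]

theorem relation (d : Data J) (hM : IsPModular 2 M) :
    1 + (b.ε₁ : ℤ) * charDegree b.χ₁.1 + b.ε₂ * charDegree b.χ₂.1 + b.ε₃ * charDegree b.χ₃.1 = 0 := by
  classical
  have h := d.block_relation hM
  rw [b.sum_block fun χ => χ.1 1 * conj (χ.1 J)] at h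
  rw [b.hval.1, b.hval.2.1, b.hval.2.2, map_intCast, map_intCast, map_intCast,
    ← Char.charDegree_cast b.χ₁, ← Char.charDegree_cast b.χ₂, ← Char.charDegree_cast b.χ₃,
    show (Char.trivialChar G).1 1 * conj ((Char.trivialChar G).1 J) = 1 by
      change (1 : ℂ) * conj (1 : ℂ) = 1
      rw [map_one, one_mul]] at h
  have : ((1 + (b.ε₁ : ℤ) * charDegree b.χ₁.1 + b.ε₂ * charDegree b.χ₂.1 +
      b.ε₃ * charDegree b.χ₃.1 : ℤ) : ℂ) = 0 := by
    push_cast
    linear_combination h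
  exact_mod_cast this

/-- The order formula. -/
theorem order_formula (d : Data J) (hM : IsPModular 2 M) :
    (Nat.card G : ℚ) *
      ((charDegree b.χ₁.1 + b.ε₁) * (charDegree b.χ₂.1 + b.ε₂) * (charDegree b.χ₃.1 + b.ε₃)) *
      (Nat.card (Subgroup.centralizer ((d.P : Set G))) : ℚ) ^ 2 =
      8 * ((charDegree b.χ₁.1 : ℚ) * charDegree b.χ₂.1 * charDegree b.χ₃.1) *
        (Nat.card (Subgroup.centralizer ({J} : Set G)) : ℚ) ^ 3 := by
  classical
  have h := d.order_eq hM fun χ hχ => b.real_at hχ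
  rw [b.sum_block fun χ => χ.1 J * χ.1 J * χ.1 J / χ.1 1] at h
  rw [b.hval.1, b.hval.2.1, b.hval.2.2,
    show (Char.trivialChar G).1 J * (Char.trivialChar G).1 J * (Char.trivialChar G).1 J /
      (Char.trivialChar G).1 1 = 1 by
      change (1 : ℂ) * 1 * 1 / 1 = 1
      norm_num] at h
  have hsq : ∀ {e : ℤ}, (e = 1 ∨ e = -1) → (e : ℂ) * e = 1 := by
    rintro e (rfl | rfl) <;> norm_num
  rw [hsq b.hε.1, hsq b.hε.2.1, hsq b.hε.2.2, ← Char.charDegree_cast b.χ₁,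
    ← Char.charDegree_cast b.χ₂, ← Char.charDegree_cast b.χ₃, one_mul, one_mul, one_mul] at h
  have hrel := b.relation d hM
  have hpos := fun χ : IrrCharacter G => (Char.charDegree_pos χ)
  have hx : ∀ χ : IrrCharacter G, (charDegree χ.1 : ℂ) ≠ 0 := fun χ =>
    Nat.cast_ne_zero.2 (hpos χ).ne'
  have hx1 := hx b.χ₁
  have hx2 := hx b.χ₂
  have hx3 := hx b.χ₃
  have hrel' : (1 : ℂ) + (b.ε₁ : ℂ) * charDegree b.χ₁.1 + (b.ε₂ : ℂ) * charDegree b.χ₂.1 +
      (b.ε₃ : ℂ) * charDegree b.χ₃.1 = 0 := by exact_mod_cast hrel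
  have e1 := hsq b.hε.1
  have e2 := hsq b.hε.2.1
  have e3 := hsq b.hε.2.2
  generalize (charDegree b.χ₁.1) = x₁ at *
  generalize (charDegree b.χ₂.1) = x₂ at *
  generalize (charDegree b.χ₃.1) = x₃ at *
  suffices hh : (Nat.card G : ℂ) *
      ((x₁ + b.ε₁) * (x₂ + b.ε₂) * (x₃ + b.ε₃)) *
      (Nat.card (Subgroup.centralizer ((d.P : Set G))) : ℂ) ^ 2 =
      8 * ((x₁ : ℂ) * x₂ * x₃) *
        (Nat.card (Subgroup.centralizer ({J} : Set G)) : ℂ) ^ 3 by exact_mod_cast hh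
  have hprod : ((x₁ : ℂ) + b.ε₁) * (x₂ + b.ε₂) * (x₃ + b.ε₃) =
      (x₁ : ℂ) * x₂ * x₃ * (1 + b.ε₁ / x₁ + b.ε₂ / x₂ + b.ε₃ / x₃) := by
    field_simp
    rcases b.hε with ⟨h1 | h1, h2 | h2, h3 | h3⟩ <;>
      simp only [h1, h2, h3, Int.cast_one, Int.cast_neg] at hrel' ⊢ <;>
      first
        | linear_combination hrel'
        | linear_combination -hrel'
  rw [hprod]
  linear_combination ((x₁ : ℂ) * x₂ * x₃) * h

end FourBlock

end Cfsg.Agent.KleinBlock
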