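import Cfsg.Agent.Lib.KleinBlock.Setting
import Cfsg.Agent.Lib.ZStar.SecondMain
import Cfsg.Agent.Lib.ZStar.SectionAverage
import Cfsg.Agent.Lib.Char.ClassSum
import Cfsg.Agent.Lib.Blocks.Core

/-!
# The order formula from the principal block of a group with a Klein four Sylow 2-subgroup
-/

set_option autoImplicit false
set_option linter.style.haveILetI false
set_option linter.unusedSectionVars false

namespace Cfsg.Agent.KleinBlock

open Cfsg
open scoped ComplexConjugate

universe u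

variable {G : Type u} [Group G] [Fintype G] {J : G} (d : Data J)

namespace Data

theorem mem_coset_ne_one (d : Data J) {y a : G} (hy : y ∈ d.P) (hy1 : y ≠ 1) (ha : a ∈ d.N) :
    a * y ≠ 1 := fun h => by
  refine hy1 (Subgroup.disjoint_def.1 d.disjoint hy ?_)
  rw [eq_inv_of_mul_eq_one_right h]
  exact d.N.inv_mem ha

theorem isConj_of_invol (d : Data J) {y a : G} (hy : y ∈ d.P) (hy1 : y ≠ 1) (ha : a ∈ d.N)
    (h : a * y * (a * y) = 1) : IsConj J (a * y) :=
  d.conj _ ((orderOf_eq_prime_iff).2 ⟨by rw [pow_two, h], d.mem_coset_ne_one hy hy1 ha⟩)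

theorem u_mul_ne_J {a : G} (ha : a ∈ d.N) : a * d.u ≠ J := fun h => by
  refine d.uJ_ne_one (Subgroup.disjoint_def.1 d.disjoint (mul_mem d.umem d.jmem) ?_)
  rw [(d.comm d.u d.umem J d.jmem).eq]
  have h1 : a = J * d.u⁻¹ := eq_mul_inv_of_mul_eq h
  rw [inv_eq_of_mul_eq_one_right (d.sq d.u d.umem)] at h1
  exact h1 ▸ ha

/-- Pairs of involutions whose product lies in `J N`. -/
def InvolPair (d : Data J) : Type u :=
  {q : G × G // IsConj J q.1 ∧ IsConj J q.2 ∧ ∃ v ∈ d.N, q.1 * q.2 = J * v}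

/-- Elements `x` of `N` with `x y` an involution or trivial. -/
def InvolCoset (d : Data J) (y : G) : Type u := {x : d.N // (x : G) * y * ((x : G) * y) = 1}

instance (y : G) : Finite (d.InvolCoset y) := inferInstanceAs (Finite {x : d.N // _})
instance : Finite d.InvolPair := inferInstanceAs (Finite {q : G × G // _})

theorem card_involPair :
    Nat.card d.InvolPair = 2 * (Nat.card (d.InvolCoset d.u) * Nat.card (d.InvolCoset (d.u * J))) := by
  classical
  have hJ1 : J ≠ 1 := fun h => by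
    have := d.hJ
    rw [h, orderOf_one] at this
    omega
  have hy2 : d.u * J ∈ d.P := mul_mem d.umem d.jmem
  have hJc : ∀ v ∈ d.N, Commute J v := fun v hv => ((d.mem_N v).1 hv).1
  have hprod : ∀ y ∈ d.P, ∀ a b : G, a ∈ d.N → b ∈ d.N → ∃ v ∈ d.N, (a * y) * (b * (y * J)) = J * v := by
    intro y hy a b ha hb
    refine ⟨a * (y * b * y⁻¹), mul_mem ha (d.conjN y (d.comm J d.jmem y hy) b hb), ?_⟩
    rw [(hJc _ (mul_mem ha (d.conjN y (d.comm J d.jmem y hy) b hb))).eq]
    calc a * y * (b * (y * J)) = a * (y * b * y⁻¹) * (y * y) * J := by group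
      _ = _ := by rw [d.sq y hy, mul_one]
  have huJJ : d.u * J * J = d.u := by rw [mul_assoc, d.sq J d.jmem, mul_one]
  let f : Bool × (d.InvolCoset d.u × d.InvolCoset (d.u * J)) → d.InvolPair := fun p =>
    match p with
    | (false, x, x') => ⟨((x.1 : G) * d.u, (x'.1 : G) * (d.u * J)),
        d.isConj_of_invol d.umem d.u_ne_one x.1.2 x.2,
        d.isConj_of_invol hy2 d.uJ_ne_one x'.1.2 x'.2, hprod d.u d.umem _ _ x.1.2 x'.1.2⟩
    | (true, x, x') => ⟨((x'.1 : G) * (d.u * J), (x.1 : G) * d.u),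
        d.isConj_of_invol hy2 d.uJ_ne_one x'.1.2 x'.2,
        d.isConj_of_invol d.umem d.u_ne_one x.1.2 x.2, by
          have := hprod (d.u * J) hy2 _ _ x'.1.2 x.1.2
          rwa [huJJ] at this⟩
  have hne : ∀ (x : d.InvolCoset d.u) (x' : d.InvolCoset (d.u * J)),
      (x.1 : G) * d.u ≠ (x'.1 : G) * (d.u * J) := by
    intro x x' h
    refine hJ1 (Subgroup.disjoint_def.1 d.disjoint d.jmem ?_)
    have h1 : d.u⁻¹ * ((x'.1 : G)⁻¹ * x.1) * d.u = J := by
      calc _ = d.u⁻¹ * (x'.1 : G)⁻¹ * ((x.1 : G) * d.u) := by group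
        _ = J := by rw [h]; group
    have := d.conjN d.u⁻¹ ((d.comm J d.jmem d.u d.umem).inv_right) _
      (mul_mem (d.N.inv_mem x'.1.2) x.1.2)
    rw [inv_inv] at this
    exact (congrArg (· ∈ d.N) h1).mp this
  have hcard : Nat.card Bool = 2 := by simp
  rw [← Nat.card_prod, ← hcard, ← Nat.card_prod]
  refine (Nat.card_congr (Equiv.ofBijective f ⟨?_, ?_⟩)).symm
  · rintro ⟨b, x, x'⟩ ⟨c, w, w'⟩ h
    have h' := congrArg Subtype.val h
    cases b <;> cases c <;> simp only [f, Prod.mk.injEq] at h'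
    · obtain ⟨e1, e2⟩ := h'
      rw [mul_left_inj] at e1 e2
      exact Prod.ext rfl (Prod.ext (Subtype.ext (Subtype.ext e1)) (Subtype.ext (Subtype.ext e2)))
    · exact absurd h'.1 (hne x w')
    · exact absurd h'.1.symm (hne w x')
    · obtain ⟨e1, e2⟩ := h'
      rw [mul_left_inj] at e1 e2
      exact Prod.ext rfl (Prod.ext (Subtype.ext (Subtype.ext e2)) (Subtype.ext (Subtype.ext e1)))
  · rintro ⟨⟨s, t⟩, hs, ht, v, hv, hst⟩
    change IsConj J s at hs
    change IsConj J t at ht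
    change s * t = J * v at hst
    have hinv2 : ∀ {z : G}, IsConj J z → z * z = 1 ∧ z ≠ 1 := by
      intro z hz
      obtain ⟨c, rfl⟩ := isConj_iff.1 hz
      exact ⟨by rw [conj_mul, d.sq J d.jmem, mul_one, mul_inv_cancel], fun h => hJ1 (conj_eq_one_iff.1 h)⟩
    have hs2 := (hinv2 hs).1
    have ht2 := (hinv2 ht).1
    have hco : (Nat.card d.N).Coprime (orderOf J) := by
      rw [d.hJ]; exact Nat.coprime_two_right.2 d.oddN
    obtain ⟨n, hn⟩ := GlauCyclic.mul_pow_eq_self hco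
    have hJv : (J * v) ^ n = J := by rw [(hJc v hv).eq]; exact hn v hv (hJc v hv).symm
    have hsJ : Commute J s := by
      have h1 : s * (J * v) * s⁻¹ = (J * v)⁻¹ := by
        rw [← hst, mul_inv_rev, inv_eq_of_mul_eq_one_right hs2, inv_eq_of_mul_eq_one_right ht2,
          ← mul_assoc s s t, hs2, one_mul]
      have h2 : s * J * s⁻¹ = J⁻¹ := by
        conv_lhs => rw [← hJv]
        rw [← conj_pow, h1, inv_pow, hJv]
      rw [inv_eq_of_mul_eq_one_right (d.sq J d.jmem)] at h2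
      exact (mul_inv_eq_iff_eq_mul.1 h2).symm
    obtain ⟨q, hq, w, hw, hsqw⟩ := d.decomp s hsJ
    obtain ⟨a, ha, hsa⟩ : ∃ a ∈ d.N, s = a * q :=
      ⟨q * w * q⁻¹, d.conjN q (d.comm J d.jmem q hq) w hw, by rw [hsqw, inv_mul_cancel_right]⟩
    have hq1 : q ≠ 1 := by
      rintro rfl
      rw [mul_one] at hsa
      exact (hinv2 hs).2 (d.N_eq_one_of_sq (hsa ▸ ha) hs2)
    have hqJ : q ≠ J := by
      intro hqJ
      rw [hqJ] at hsa
      have h1 : a * a = 1 := by
        rw [← hs2, hsa, mul_assoc a J, ← mul_assoc J a J, (hJc a ha).eq, mul_assoc a J J,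
          d.sq J d.jmem, mul_one]
      rw [d.N_eq_one_of_sq ha h1, one_mul] at hsa
      have htv : t = v := by
        rw [hsa] at hst
        exact mul_left_cancel hst
      exact (hinv2 ht).2 (d.N_eq_one_of_sq (htv ▸ hv) ht2)
    have hqJm : q * J ∈ d.P := mul_mem hq d.jmem
    obtain ⟨b, hb, htb⟩ : ∃ b ∈ d.N, t = b * (q * J) := by
      refine ⟨(q * a⁻¹ * q⁻¹) * ((q * J) * v * (q * J)⁻¹),
        mul_mem (d.conjN q (d.comm J d.jmem q hq) _ (d.N.inv_mem ha))
          (d.conjN _ (d.comm J d.jmem _ hqJm) v hv), ?_⟩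
      have h1 : t = s⁻¹ * (J * v) := by rw [← hst, inv_mul_cancel_left]
      have h2 : q * a⁻¹ * q⁻¹ * (q * J * v * (q * J)⁻¹) * (q * J) = q * (a⁻¹ * (J * v)) := by group
      rw [h1, hsa, mul_inv_rev, h2, mul_assoc]
      congr 1
      exact inv_eq_of_mul_eq_one_right (d.sq q hq)
    have hsa2 : a * q * (a * q) = 1 := by rw [← hsa, hs2]
    have htb2 : b * (q * J) * (b * (q * J)) = 1 := by rw [← htb, ht2]
    rcases d.two q hq with e | e | e | e
    · exact absurd e hq1
    · exact absurd e hqJ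
    · subst e
      exact ⟨(false, ⟨⟨a, ha⟩, hsa2⟩, ⟨⟨b, hb⟩, htb2⟩), Subtype.ext (Prod.ext hsa.symm htb.symm)⟩
    · subst e
      rw [huJJ] at htb htb2
      exact ⟨(true, ⟨⟨b, hb⟩, htb2⟩, ⟨⟨a, ha⟩, hsa2⟩), Subtype.ext (Prod.ext hsa.symm htb.symm)⟩

theorem card_involCoset_mul {y : G} (hy : y ∈ d.P) :
    Nat.card (d.InvolCoset y) *
      Nat.card (d.N ⊓ Subgroup.centralizer ({y} : Set G) : Subgroup G) = Nat.card d.N := by
  classical
  haveI := Fintype.ofFinite d.N
  haveI := Fintype.ofFinite (d.N ⊓ Subgroup.centralizer ({y} : Set G) : Subgroup G)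
  rw [← d.card_invol_coset hy, InvolCoset, Nat.card_eq_fintype_card, Fintype.card_subtype]

theorem centralizer_uJ_eq :
    (d.N ⊓ Subgroup.centralizer ({d.u * J} : Set G) : Subgroup G) =
      d.N ⊓ Subgroup.centralizer ({d.u} : Set G) := by
  ext v
  simp only [Subgroup.mem_inf, Subgroup.mem_centralizer_singleton_iff, and_congr_right_iff]
  intro hv
  have hc : Commute J v := ((d.mem_N v).1 hv).1
  constructor
  · intro h
    have h1 : Commute v (d.u * J * J) := (show Commute v (d.u * J) from h).mul_right hc.symm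
    rwa [mul_assoc, d.sq J d.jmem, mul_one] at h1
  · intro h
    exact ((show Commute v d.u from h).mul_right hc.symm).eq

theorem card_involPair_mul :
    Nat.card d.InvolPair *
      Nat.card (d.N ⊓ Subgroup.centralizer ({d.u} : Set G) : Subgroup G) ^ 2 =
      2 * Nat.card d.N ^ 2 := by
  have h1 := d.card_involCoset_mul d.umem
  have h2 := d.card_involCoset_mul (mul_mem d.umem d.jmem)
  rw [d.centralizer_uJ_eq] at h2
  rw [d.card_involPair, ← h1]
  conv_rhs => rw [pow_two]; arg 2; arg 2; rw [h1, ← h2]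
  ring

open Classical in
theorem card_conj_fiber (x : G) {s : G} (h : IsConj x s) :
    (Finset.univ.filter fun a : G => a * x * a⁻¹ = s).card =
      Nat.card (Subgroup.centralizer ({x} : Set G)) := by
  obtain ⟨c, hc⟩ := isConj_iff.1 h
  rw [Nat.card_eq_fintype_card, Fintype.card_subtype]
  refine Finset.card_equiv (Equiv.mulLeft c⁻¹) fun a => ?_
  simp only [Finset.mem_filter, Finset.mem_univ, true_and, Equiv.coe_mulLeft,
    Subgroup.mem_centralizer_singleton_iff]
  constructor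
  · intro ha
    calc c⁻¹ * a * x = c⁻¹ * (a * x * a⁻¹) * a := by group
      _ = c⁻¹ * (c * x * c⁻¹) * a := by rw [ha, hc]
      _ = _ := by group
  · intro ha
    calc a * x * a⁻¹ = c * (c⁻¹ * a * x) * (c⁻¹ * a)⁻¹ * c⁻¹ := by group
      _ = c * (x * (c⁻¹ * a)) * (c⁻¹ * a)⁻¹ * c⁻¹ := by rw [ha]
      _ = s := by rw [← hc]; group

/-- The pairs seen from the character table. -/
theorem sum_card_pairs :
    ∑ v ∈ ZStar.oddCentralizing J,
      Nat.card {p : G × G // p.1 * J * p.1⁻¹ * (p.2 * J * p.2⁻¹) = J * v} =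
      Nat.card (Subgroup.centralizer ({J} : Set G)) ^ 2 * Nat.card d.InvolPair := by
  classical
  set A := Finset.univ.filter fun q : G × G =>
    IsConj J q.1 ∧ IsConj J q.2 ∧ ∃ v ∈ d.N, q.1 * q.2 = J * v
  set B := Finset.univ.filter fun p : G × G =>
    ∃ v ∈ d.N, p.1 * J * p.1⁻¹ * (p.2 * J * p.2⁻¹) = J * v
  have hA : Nat.card d.InvolPair = A.card := by
    haveI := Fintype.ofFinite d.InvolPair
    rw [InvolPair, Nat.card_eq_fintype_card, Fintype.card_subtype]
  have hB1 : B.card = Nat.card (Subgroup.centralizer ({J} : Set G)) ^ 2 * A.card := by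
    have hmaps : ∀ p ∈ B, (p.1 * J * p.1⁻¹, p.2 * J * p.2⁻¹) ∈ A := fun p hp =>
      Finset.mem_filter.2 ⟨Finset.mem_univ _, isConj_iff.2 ⟨p.1, rfl⟩, isConj_iff.2 ⟨p.2, rfl⟩,
        (Finset.mem_filter.1 hp).2⟩
    rw [Finset.card_eq_sum_card_fiberwise hmaps, Finset.sum_congr rfl fun q hq => ?_,
      Finset.sum_const, smul_eq_mul, mul_comm]
    obtain ⟨h1, h2, hv⟩ := (Finset.mem_filter.1 hq).2
    rw [pow_two]
    conv_rhs => arg 1; rw [← card_conj_fiber J h1]
    conv_rhs => arg 2; rw [← card_conj_fiber J h2]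
    rw [← Finset.card_product]
    congr 1
    ext p
    simp only [B, Finset.mem_filter, Finset.mem_univ, true_and, Finset.mem_product, Prod.ext_iff]
    exact ⟨fun h => h.2, fun h => ⟨by rw [h.1, h.2]; exact hv, h⟩⟩
  rw [hA, ← hB1]
  have hmaps : ∀ p ∈ B, J⁻¹ * (p.1 * J * p.1⁻¹ * (p.2 * J * p.2⁻¹)) ∈ ZStar.oddCentralizing J := by
    intro p hp
    obtain ⟨v, hv, he⟩ := (Finset.mem_filter.1 hp).2
    rw [he, inv_mul_cancel_left, ZStar.mem_oddCentralizing]
    exact (d.mem_N v).1 hv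
  rw [Finset.card_eq_sum_card_fiberwise hmaps]
  refine Finset.sum_congr rfl fun v hv => ?_
  rw [ZStar.mem_oddCentralizing] at hv
  rw [Nat.card_eq_fintype_card, Fintype.card_subtype]
  congr 1
  ext p
  simp only [B, Finset.mem_filter, Finset.mem_univ, true_and, inv_mul_eq_iff_eq_mul]
  exact ⟨fun h => ⟨⟨v, (d.mem_N v).2 hv, h⟩, h⟩, fun h => h.2⟩

theorem card_oddCentralizing : (ZStar.oddCentralizing J).card = Nat.card d.N := by
  classical
  rw [Nat.card_eq_fintype_card]
  exact (Fintype.card_of_subtype _ fun v => by rw [ZStar.mem_oddCentralizing, d.mem_N]).symm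

variable {M : Ideal AlgInt}

/-- The signed reciprocal degree sum of the principal block. -/
theorem order_eq (hM : IsPModular 2 M) [DecidablePred (· ∈ principalBlock M G)]
    (hreal : ∀ χ ∈ principalBlock M G, conj (χ.1 J) = χ.1 J) :
    (Nat.card G : ℂ) *
      (∑ χ ∈ Finset.univ.filter (· ∈ principalBlock M G), χ.1 J * χ.1 J * χ.1 J / χ.1 1) *
      (Nat.card (Subgroup.centralizer ((d.P : Set G))) : ℂ) ^ 2 =
      8 * (Nat.card (Subgroup.centralizer ({J} : Set G)) : ℂ) ^ 3 := by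
  classical
  set S : ℂ := ∑ χ ∈ Finset.univ.filter (· ∈ principalBlock M G), χ.1 J * χ.1 J * χ.1 J / χ.1 1
  have hk : ∃ k : ℕ, orderOf J = 2 ^ k := ⟨1, by rw [d.hJ, pow_one]⟩
  have hsum : ∀ χ : IrrCharacter G, ∑ v ∈ ZStar.oddCentralizing J, χ.1 (J * v)⁻¹ =
      if χ ∈ principalBlock M G then (Nat.card d.N : ℂ) * χ.1 J else 0 := by
    intro χ
    have h := ZStar.sum_oddCentralizing_apply ZStar.secondPrincipal hM hk d.mem_N χ
    simp only [← Char.IsCharacter.conj_apply (Char.irr_isCharacter χ), ← map_sum]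
    split_ifs with hχ
    · rw [h.1 hχ, map_mul, map_natCast, hreal χ hχ, d.card_oddCentralizing]
    · rw [h.2 hχ, map_zero]
  have h1 : ((Nat.card (Subgroup.centralizer ({J} : Set G)) ^ 2 * Nat.card d.InvolPair : ℕ) : ℂ) =
      (Nat.card G : ℂ) * ((Nat.card d.N : ℂ) * S) := by
    rw [← d.sum_card_pairs]
    push_cast
    simp only [Char.card_conj_mul_conj_eq]
    rw [← Finset.mul_sum, Finset.sum_comm]
    congr 1
    rw [Finset.mul_sum, Finset.sum_filter]
    refine Finset.sum_congr rfl fun χ _ => ?_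
    have e : ∑ v ∈ ZStar.oddCentralizing J, χ.1 J * χ.1 J * χ.1 (J * v)⁻¹ / χ.1 1 =
        χ.1 J * χ.1 J * (∑ v ∈ ZStar.oddCentralizing J, χ.1 (J * v)⁻¹) / χ.1 1 := by
      rw [Finset.mul_sum, Finset.sum_div]
    rw [e, hsum χ]
    split_ifs <;> ring
  have h2 := d.card_involPair_mul
  have hJ4 := d.card_centralizer_J
  have hP4 := d.card_centralizer_P
  rw [hJ4, hP4]
  rw [hJ4] at h1
  push_cast at h1 ⊢
  have h2' : (Nat.card d.InvolPair : ℂ) *
      (Nat.card (d.N ⊓ Subgroup.centralizer ({d.u} : Set G) : Subgroup G) : ℂ) ^ 2 =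
      2 * (Nat.card d.N : ℂ) ^ 2 := by exact_mod_cast h2
  have hN : (Nat.card d.N : ℂ) ≠ 0 := Char.card_ne_zero
  apply mul_left_cancel₀ hN
  linear_combination (-16 * (Nat.card (d.N ⊓ Subgroup.centralizer ({d.u} : Set G) : Subgroup G) : ℂ) ^ 2) * h1 +
    (256 * (Nat.card d.N : ℂ) ^ 2) * h2'

/-- Degrees weighted by the values at `J` cancel in the principal block. -/
theorem block_relation (d : Data J) (hM : IsPModular 2 M) [DecidablePred (· ∈ principalBlock M G)] :
    ∑ χ ∈ Finset.univ.filter (· ∈ principalBlock M G), χ.1 1 * conj (χ.1 J) = 0 := by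
  haveI : Fact (Nat.Prime 2) := ⟨Nat.prime_two⟩
  haveI := hM.2.1
  exact Blocks.weak_orthogonality (p := 2) hM.2.2 (Blocks.isPBlock_principalBlock hM.2.2)
    (by simp [IsPRegular]) (by simp [IsPRegular, d.hJ])

end Data

end Cfsg.Agent.KleinBlock
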