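import Cfsg.Agent.S0202
import Cfsg.Agent.Lib.Glauberman.CyclicCoset
import Mathlib.GroupTheory.Transfer

/-!
# Groups with a Klein four Sylow 2-subgroup and no normal 2-complement: the centralizer of an
involution and the pairs of involutions with product in its 2-section
-/

set_option autoImplicit false
set_option linter.style.haveILetI false
set_option linter.unusedSectionVars false

namespace Cfsg.Agent.KleinBlock

variable {G : Type*} [Group G] [Finite G]

/-- The data used for the order formula. -/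
structure Data (J : G) where
  P : Subgroup G
  u : G
  N : Subgroup G
  jmem : J ∈ P
  umem : u ∈ P
  ju : J ≠ u
  two : ∀ x ∈ P, x = 1 ∨ x = J ∨ x = u ∨ x = u * J
  cardP : Nat.card P = 4
  sq : ∀ x ∈ P, x * x = 1
  comm : ∀ x ∈ P, ∀ y ∈ P, Commute x y
  conj : ∀ s : G, orderOf s = 2 → IsConj J s
  hJ : orderOf J = 2
  mem_N : ∀ v, v ∈ N ↔ Commute J v ∧ Odd (orderOf v)
  oddN : Odd (Nat.card N)
  conjN : ∀ c, Commute J c → ∀ v ∈ N, c * v * c⁻¹ ∈ N
  decomp : ∀ c, Commute J c → ∃ q ∈ P, ∃ v ∈ N, c = q * v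
  disjoint : Disjoint P N

theorem exists_data {g₀ : ℕ} (hg₀ : Odd g₀) (hG : Nat.card G = 4 * g₀)
    (hnc : ¬ ∃ N : Subgroup G, N.Normal ∧ Nat.card N = g₀) (P : Sylow 2 G) {J : G}
    (hJ : J ∈ (P : Subgroup G)) (hJ2 : orderOf J = 2) :
    ∃ d : Data J, d.P = (P : Subgroup G) := by
  classical
  haveI : Fact (Nat.Prime 2) := ⟨Nat.prime_two⟩
  have hg0 : g₀ ≠ 0 := fun h => by rw [h] at hg₀; simp at hg₀
  have hP4 : Nat.card (P : Subgroup G) = 4 := by
    have h1 : g₀.factorization 2 = 0 :=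
      Nat.factorization_eq_zero_of_not_dvd fun h => Nat.not_even_iff_odd.2 hg₀ (even_iff_two_dvd.2 h)
    rw [Sylow.card_eq_multiplicity, hG, Nat.factorization_mul (by norm_num) hg0, Finsupp.add_apply,
      h1, add_zero, show (4 : ℕ) = 2 ^ 2 by norm_num, Nat.prime_two.factorization_pow,
      Finsupp.single_eq_same]
  have hnocompl : ∀ K : Subgroup G, K.Normal → Subgroup.IsComplement' K (P : Subgroup G) → False := by
    intro K hK hc
    refine hnc ⟨K, hK, ?_⟩
    have := hc.card_mul_card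
    rw [hP4, hG] at this
    omega
  have hsq : ∀ x : (P : Subgroup G), x * x = 1 := by
    intro x
    by_contra hne
    have hord : orderOf x = 4 := by
      have hd : orderOf x ∣ 2 ^ 2 := (orderOf_dvd_natCard x).trans (by rw [hP4]; norm_num)
      obtain ⟨i, hi, he⟩ := (Nat.dvd_prime_pow Nat.prime_two).1 hd
      rcases (show i = 0 ∨ i = 1 ∨ i = 2 by omega) with rfl | rfl | rfl
      · have h1 : x = 1 := orderOf_eq_one_iff.1 (by simpa using he)
        exact absurd (by rw [h1, mul_one]) hne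
      · have h2 : orderOf x = 2 := by simpa using he
        exact absurd ((pow_two x).symm.trans (orderOf_dvd_iff_pow_eq_one.1 h2.dvd)) hne
      · simpa using he
    haveI : IsCyclic (P : Subgroup G) := isCyclic_of_orderOf_eq_card x (by rw [hord, hP4])
    have hmin : (Nat.card G).minFac = 2 :=
      (Nat.minFac_eq_two_iff _).2 ⟨2 * g₀, by omega⟩
    exact hnocompl _ (MonoidHom.normal_ker _) (IsCyclic.isComplement' hmin inferInstance)
  have hK : IsKleinFour (P : Subgroup G) := by
    refine ⟨hP4, ?_⟩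
    rcases (Nat.dvd_prime Nat.prime_two).1 (Monoid.exponent_dvd_of_forall_pow_eq_one
      (G := (P : Subgroup G)) (n := 2) fun x => by rw [pow_two]; exact hsq x) with h | h
    · haveI := Monoid.exp_eq_one_iff.1 h
      have : Nat.card (P : Subgroup G) = 1 := Nat.card_eq_one_iff_unique.2 ⟨inferInstance, ⟨1⟩⟩
      omega
    · exact h
  have hcomm : ∀ x ∈ (P : Subgroup G), ∀ y ∈ (P : Subgroup G), Commute x y := fun x hx y hy => by
    haveI : IsMulCommutative (P : Subgroup G) := IsKleinFour.isMulCommutative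
    exact congrArg Subtype.val (mul_comm' (⟨x, hx⟩ : (P : Subgroup G)) ⟨y, hy⟩)
  have hJ1 : J ≠ 1 := fun h => by rw [h, orderOf_one] at hJ2; omega
  -- two conjugate elements of `P`
  obtain ⟨a, ha, b, hb, hab, hne⟩ :
      ∃ a ∈ (P : Subgroup G), ∃ b ∈ (P : Subgroup G), IsConj a b ∧ a ≠ b := by
    by_contra hall
    push Not at hall
    have hN : Subgroup.normalizer ((P : Subgroup G) : Set G) ≤
        Subgroup.centralizer ((P : Subgroup G) : Set G) := by
      intro n hn
      rw [Subgroup.mem_centralizer_iff]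
      intro x hx
      have hx' : n * x * n⁻¹ ∈ P := (Subgroup.mem_normalizer_iff.mp hn x).mp hx
      have := hall x hx _ hx' (isConj_iff.mpr ⟨n, rfl⟩)
      conv_lhs => rw [this]
      group
    exact hnocompl _ (MonoidHom.normal_ker _) (MonoidHom.ker_transferSylow_isComplement' P hN)
  have ha1 : a ≠ 1 := fun h => hne (by rw [h] at hab ⊢; exact (isConj_one_right.mp hab).symm)
  have hallP : ∀ c ∈ (P : Subgroup G), c ≠ 1 → IsConj a c := fun c hc hc1 =>
    S0202.conj_mem_three P hK ha hb ha1 hne hab hc hc1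
  have hconj : ∀ s : G, orderOf s = 2 → IsConj J s := by
    intro s hs
    refine (hallP J hJ hJ1).symm.trans ?_
    have h2 : IsPGroup 2 (Subgroup.zpowers s) :=
      IsPGroup.of_card (n := 1) (by rw [Nat.card_zpowers, hs, pow_one])
    obtain ⟨R, hR⟩ := h2.exists_le_sylow
    obtain ⟨g, rfl⟩ := MulAction.exists_smul_eq G P R
    have hg := hR (Subgroup.mem_zpowers s)
    rw [Sylow.coe_subgroup_smul, Subgroup.mem_pointwise_smul_iff_inv_smul_mem, MulAut.smul_def,
      MulAut.conj_inv_apply] at hg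
    have hc : IsConj (g⁻¹ * s * g) s := isConj_iff.2 ⟨g, by group⟩
    refine (hallP _ hg fun h => ?_).trans hc
    rw [h] at hc
    rw [isConj_one_right.mp hc, orderOf_one] at hs
    omega
  -- the third element
  haveI := Fintype.ofFinite (P : Subgroup G)
  have hP4' : Fintype.card (P : Subgroup G) = 4 := by rw [← Nat.card_eq_fintype_card, hP4]
  obtain ⟨u, hu⟩ : ∃ u : (P : Subgroup G), u ∉ ({1, ⟨J, hJ⟩} : Finset (P : Subgroup G)) := by
    by_contra hall
    push Not at hall
    have h1 := Finset.card_le_card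
      (fun x _ => hall x : (Finset.univ : Finset (P : Subgroup G)) ⊆ {1, ⟨J, hJ⟩})
    rw [Finset.card_univ, hP4'] at h1
    have h2 : ({1, ⟨J, hJ⟩} : Finset (P : Subgroup G)).card ≤ 2 := Finset.card_le_two
    omega
  obtain ⟨u, humem⟩ := u
  simp only [Finset.mem_insert, Finset.mem_singleton, Subtype.ext_iff, Subgroup.coe_one, not_or] at hu
  obtain ⟨hu1, huJ⟩ := hu
  have hsq' : ∀ x ∈ (P : Subgroup G), x * x = 1 := fun x hx =>
    congrArg Subtype.val (hsq ⟨x, hx⟩)
  have htwo : ∀ x ∈ (P : Subgroup G), x = 1 ∨ x = J ∨ x = u ∨ x = u * J := by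
    intro x hx
    by_contra hx'
    simp only [not_or] at hx'
    obtain ⟨h1, h2, h3, h4⟩ := hx'
    have e1 : u * J ≠ 1 := fun h => huJ (by
      rw [← mul_one u, ← hsq' J hJ, ← mul_assoc, h, one_mul])
    have e2 : u * J ≠ J := fun h => hu1 (mul_eq_right.1 h)
    have e3 : u * J ≠ u := fun h => hJ1 (mul_eq_left.1 h)
    have key : ({1, ⟨J, hJ⟩, ⟨u, humem⟩, ⟨u * J, mul_mem humem hJ⟩, ⟨x, hx⟩} :
        Finset (P : Subgroup G)).card = 5 := by
      simp [Finset.card_insert_of_notMem, Subtype.ext_iff, Ne.symm h1, Ne.symm h2, Ne.symm h3,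
        Ne.symm h4, Ne.symm hu1, Ne.symm huJ, Ne.symm hJ1, Ne.symm e1, Ne.symm e2, Ne.symm e3]
    have := Finset.card_le_univ ({1, ⟨J, hJ⟩, ⟨u, humem⟩, ⟨u * J, mul_mem humem hJ⟩, ⟨x, hx⟩} :
      Finset (P : Subgroup G))
    omega
  -- the centralizer of `J`
  set H := Subgroup.centralizer ({J} : Set G) with hH
  have hJH : ∀ c : H, Commute J (c : G) := fun c =>
    (Subgroup.mem_centralizer_singleton_iff.1 c.2).symm
  have hPH : (P : Subgroup G) ≤ H := fun x hx =>
    Subgroup.mem_centralizer_singleton_iff.2 (hcomm x hx J hJ).eq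
  set P' : Sylow 2 H := P.subtype hPH with hP'
  have hP'mem : ∀ x : H, x ∈ (P' : Subgroup H) ↔ (x : G) ∈ (P : Subgroup G) := fun x => by
    rw [hP', Sylow.coe_subtype]; exact Subgroup.mem_subgroupOf
  haveI hK' : IsKleinFour (P' : Subgroup H) := by
    have e : (P' : Subgroup H) ≃* (P : Subgroup G) := by
      rw [hP', Sylow.coe_subtype]; exact Subgroup.subgroupOfEquivOfLe hPH
    exact ⟨by rw [Nat.card_congr e.toEquiv, hP4],
      by rw [Monoid.exponent_eq_of_mulEquiv e]; exact hK.exponent_two⟩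
  have hN : Subgroup.normalizer ((P' : Subgroup H) : Set H) ≤
      Subgroup.centralizer ((P' : Subgroup H) : Set H) := by
    intro n hn
    rw [Subgroup.mem_centralizer_iff]
    intro x hx
    have hx' : n * x * n⁻¹ ∈ (P' : Subgroup H) := (Subgroup.mem_normalizer_iff.mp hn x).mp hx
    by_contra hne'
    have hxne : x ≠ n * x * n⁻¹ := fun h => hne' (by
      conv_lhs => rw [h]
      group)
    have hx1 : x ≠ 1 := fun h => hxne (by rw [h]; group)
    let jH : H := ⟨J, hPH hJ⟩
    have hjc : IsConj x jH := S0202.conj_mem_three P' hK' hx hx' hx1 hxne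
      (isConj_iff.mpr ⟨n, rfl⟩) ((hP'mem jH).2 hJ) (fun h => hJ1 (congrArg Subtype.val h))
    obtain ⟨c, hc⟩ := isConj_iff.1 hjc
    have hxJ : x = jH := by
      apply Subtype.ext
      have h1 : (c : G) * x * (c : G)⁻¹ = J := congrArg Subtype.val hc
      calc (x : G) = (c : G)⁻¹ * ((c : G) * x * (c : G)⁻¹) * c := by group
        _ = (c : G)⁻¹ * J * c := by rw [h1]
        _ = J := by rw [mul_assoc, (hJH c).eq, inv_mul_cancel_left]
    refine hxne ?_
    apply Subtype.ext
    rw [hxJ]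
    show J = (n : G) * J * (n : G)⁻¹
    rw [← (hJH n).eq, mul_inv_cancel_right]
  set K := (MonoidHom.transferSylow P' hN).ker with hKdef
  have hKP : Subgroup.IsComplement' K (P' : Subgroup H) :=
    MonoidHom.ker_transferSylow_isComplement' P' hN
  have hKodd : Odd (Nat.card K) := by
    rw [← Nat.not_even_iff_odd, even_iff_two_dvd]
    exact MonoidHom.not_dvd_card_ker_transferSylow P' hN
  have hmemK : ∀ v : H, Odd (orderOf v) → v ∈ K := by
    intro v hv
    obtain ⟨⟨k, q⟩, hkq⟩ := hKP.surjective v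
    set f := MonoidHom.transferSylow P' hN
    have h4 : f v ^ 4 = 1 := by
      have h := pow_card_eq_one' (x := f v)
      rwa [IsKleinFour.card_four] at h
    have hodd : f v ^ orderOf v = 1 := by rw [← map_pow, pow_orderOf_eq_one, map_one]
    have hg := pow_gcd_eq_one.2 ⟨h4, hodd⟩
    have : Nat.gcd 4 (orderOf v) = 1 := by
      have hc : Nat.Coprime (2 ^ 2) (orderOf v) := (Nat.coprime_two_left.2 hv).pow_left 2
      exact Nat.coprime_iff_gcd_eq_one.1 hc
    rw [this, pow_one] at hg
    exact hg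
  refine ⟨{ P := P, u := u, N := K.map H.subtype, jmem := hJ, umem := humem, ju := Ne.symm huJ,
            two := htwo, cardP := hP4, sq := hsq', comm := hcomm, conj := hconj, hJ := hJ2,
            mem_N := ?_, oddN := ?_, conjN := ?_, decomp := ?_, disjoint := ?_ }, rfl⟩
  · intro v
    constructor
    · rintro ⟨w, hw, rfl⟩
      refine ⟨hJH w, hKodd.of_dvd_nat ?_⟩
      rw [Subgroup.coe_subtype, Subgroup.orderOf_coe]
      exact Subgroup.orderOf_dvd_natCard _ hw
    · rintro ⟨hc, ho⟩
      exact ⟨⟨v, Subgroup.mem_centralizer_singleton_iff.2 hc.symm.eq⟩,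
        hmemK _ (by rwa [← Subgroup.orderOf_coe]), rfl⟩
  · rwa [Subgroup.card_map_of_injective H.subtype_injective]
  · intro c hc v hv
    obtain ⟨w, hw, rfl⟩ := hv
    have hn := (MonoidHom.normal_ker (MonoidHom.transferSylow P' hN)).conj_mem w hw
      ⟨c, Subgroup.mem_centralizer_singleton_iff.2 hc.symm.eq⟩
    exact ⟨_, hn, rfl⟩
  · intro c hc
    obtain ⟨⟨q, k⟩, hqk⟩ :=
      hKP.symm.surjective ⟨c, Subgroup.mem_centralizer_singleton_iff.2 hc.symm.eq⟩
    exact ⟨q.1, (hP'mem _).1 q.2, (k : H), ⟨_, k.2, rfl⟩, congrArg Subtype.val hqk.symm⟩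
  · rw [Subgroup.disjoint_def]
    rintro x hx ⟨w, hw, rfl⟩
    rw [Subgroup.coe_subtype, Subgroup.disjoint_def.1 hKP.disjoint hw ((hP'mem w).2 hx), Subgroup.coe_one]

variable {J : G} (d : Data J)

namespace Data

theorem odd_of_mem (d : Data J) {v : G} (hv : v ∈ d.N) : Odd (orderOf v) := ((d.mem_N v).1 hv).2

theorem N_eq_one_of_sq (d : Data J) {v : G} (hv : v ∈ d.N) (h : v * v = 1) : v = 1 := by
  have h2 : orderOf v ∣ 2 := orderOf_dvd_of_pow_eq_one (by rw [pow_two, h])
  rcases (Nat.dvd_prime Nat.prime_two).1 h2 with h1 | h1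
  · exact orderOf_eq_one_iff.1 h1
  · have := d.odd_of_mem hv
    rw [h1] at this
    exact absurd this (by decide)

theorem uJ_ne_one : d.u * J ≠ 1 := fun h => d.ju <|
  calc J = d.u * d.u * J := by rw [d.sq d.u d.umem, one_mul]
    _ = d.u := by rw [mul_assoc, h, mul_one]

theorem u_ne_one : d.u ≠ 1 := fun h => by
  obtain ⟨x, hx, hxn⟩ : ∃ x ∈ d.P, x ∉ ({1, J} : Set G) := by
    by_contra hall
    push Not at hall
    have h1 : (d.P : Set G).ncard ≤ ({1, J} : Set G).ncard :=
      Set.ncard_le_ncard (fun x hx => hall x hx) (Set.toFinite _)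
    rw [← Nat.card_coe_set_eq] at h1
    have h2 : ({1, J} : Set G).ncard ≤ 2 := (Set.ncard_insert_le _ _).trans (by simp)
    have h3 : Nat.card ((d.P : Set G)) = 4 := d.cardP
    omega
  rcases d.two x hx with e | e | e | e <;> simp [h, e] at hxn

/-- `C(J)` has four cosets of `N`. -/
theorem card_centralizer_J :
    Nat.card (Subgroup.centralizer ({J} : Set G)) = 4 * Nat.card d.N := by
  rw [← d.cardP, ← Nat.card_prod]
  have hmem : ∀ x : d.P × d.N,
      (x.1 : G) * x.2 ∈ Subgroup.centralizer ({J} : Set G) := fun x =>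
    mul_mem (Subgroup.mem_centralizer_singleton_iff.2 (d.comm _ x.1.2 J d.jmem).eq)
      (Subgroup.mem_centralizer_singleton_iff.2 ((d.mem_N _).1 x.2.2).1.symm.eq)
  refine (Nat.card_congr (Equiv.ofBijective (fun x : d.P × d.N => (⟨_, hmem x⟩ :
    Subgroup.centralizer ({J} : Set G))) ⟨fun a b h => ?_, fun c => ?_⟩)).symm
  · exact Subgroup.mul_injective_of_disjoint d.disjoint (congrArg Subtype.val h)
  · obtain ⟨q, hq, v, hv, he⟩ := d.decomp c (Subgroup.mem_centralizer_singleton_iff.1 c.2).symm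
    exact ⟨(⟨q, hq⟩, ⟨v, hv⟩), Subtype.ext he.symm⟩

/-- `C(P)` has four cosets of the part of `N` commuting with `u`. -/
theorem card_centralizer_P :
    Nat.card (Subgroup.centralizer ((d.P : Set G))) =
      4 * Nat.card (d.N ⊓ Subgroup.centralizer ({d.u} : Set G) : Subgroup G) := by
  rw [← d.cardP, ← Nat.card_prod]
  have hv : ∀ v ∈ (d.N ⊓ Subgroup.centralizer ({d.u} : Set G) : Subgroup G),
      v ∈ Subgroup.centralizer ((d.P : Set G)) := by
    rintro v ⟨hvN, hvu⟩
    rw [Subgroup.mem_centralizer_iff]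
    intro x hx
    have hvJ : Commute J v := ((d.mem_N v).1 hvN).1
    have hvu' : Commute d.u v := (Subgroup.mem_centralizer_singleton_iff.1 hvu).symm
    rcases d.two x hx with rfl | rfl | rfl | rfl
    · exact (Commute.one_left v).eq
    · exact hvJ.eq
    · exact hvu'.eq
    · exact (hvu'.mul_left hvJ).eq
  have hmem : ∀ x : d.P × (d.N ⊓ Subgroup.centralizer ({d.u} : Set G) : Subgroup G),
      (x.1 : G) * x.2 ∈ Subgroup.centralizer ((d.P : Set G)) := fun x =>
    mul_mem (Subgroup.mem_centralizer_iff.2 fun y hy => (d.comm y hy _ x.1.2).eq) (hv _ x.2.2)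
  refine (Nat.card_congr (Equiv.ofBijective (fun x : d.P ×
    (d.N ⊓ Subgroup.centralizer ({d.u} : Set G) : Subgroup G) =>
      (⟨_, hmem x⟩ : Subgroup.centralizer ((d.P : Set G)))) ⟨fun a b h => ?_, fun c => ?_⟩)).symm
  · exact Subgroup.mul_injective_of_disjoint (d.disjoint.mono_right inf_le_left)
      (congrArg Subtype.val h)
  · have hc := Subgroup.mem_centralizer_iff.1 c.2
    obtain ⟨q, hq, v, hvN, he⟩ := d.decomp c (hc J d.jmem)
    have hvu : v ∈ Subgroup.centralizer ({d.u} : Set G) := by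
      rw [Subgroup.mem_centralizer_singleton_iff]
      have hcu : Commute (c : G) d.u := (hc d.u d.umem).symm
      have hqu : Commute q d.u := d.comm q hq d.u d.umem
      rw [show v = q⁻¹ * (c : G) by rw [he, inv_mul_cancel_left]]
      exact (hqu.inv_left.mul_left hcu).eq
    exact ⟨(⟨q, hq⟩, ⟨v, ⟨hvN, hvu⟩⟩), Subtype.ext he.symm⟩

open Classical in
/-- Involutions in a coset `N y`. -/
theorem card_invol_coset [Fintype d.N] {y : G} (hy : y ∈ d.P)
    [Fintype (d.N ⊓ Subgroup.centralizer ({y} : Set G) : Subgroup G)] :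
    ((Finset.univ : Finset d.N).filter fun x : d.N => ((x : G) * y) * ((x : G) * y) = 1).card *
      Nat.card (d.N ⊓ Subgroup.centralizer ({y} : Set G) : Subgroup G) = Nat.card d.N := by
  have hs : ∀ v ∈ d.N, y * v * y⁻¹ ∈ d.N := fun v hv => d.conjN y (d.comm J d.jmem y hy) v hv
  have hord : orderOf y ∣ 2 := orderOf_dvd_of_pow_eq_one (by rw [pow_two, d.sq y hy])
  have hco : (Nat.card d.N).Coprime (orderOf y) :=
    (Nat.coprime_two_right.2 d.oddN).coprime_dvd_right hord
  have hCD : ∀ c, c ∈ (d.N ⊓ Subgroup.centralizer ({y} : Set G) : Subgroup G) ↔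
      c ∈ d.N ∧ Commute c y := fun c => by
    rw [Subgroup.mem_inf, Subgroup.mem_centralizer_singleton_iff]
    rfl
  set CD := (d.N ⊓ Subgroup.centralizer ({y} : Set G) : Subgroup G)
  set Φ := GlauCyclic.twist hs (fun c (hc : c ∈ CD) => ((hCD c).1 hc).1) with hΦ
  set A := (Finset.univ : Finset d.N).filter fun x : d.N => ((x : G) * y) * ((x : G) * y) = 1
  have hinv : ∀ p : d.N × CD, Φ p ∈ A ↔ p.2 = 1 := by
    intro p
    have hc : Commute (p.2 : G) y := ((hCD _).1 p.2.2).2
    have e : ((p.2 : G) * y) * ((p.2 : G) * y) = (p.2 : G) * p.2 := by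
      rw [mul_assoc, ← mul_assoc y, ← hc.eq, mul_assoc (p.2 : G) y, d.sq y hy, mul_one]
    rw [Finset.mem_filter, hΦ, GlauCyclic.coe_twist_mul, and_iff_right (Finset.mem_univ _),
      conj_mul, conj_eq_one_iff, e]
    exact ⟨fun h => Subtype.ext (d.N_eq_one_of_sq ((hCD _).1 p.2.2).1 h), fun h => by simp [h]⟩
  have hcount := Finset.card_eq_sum_card_fiberwise (s := (Finset.univ : Finset (d.N × CD)).filter
    fun p => p.2 = 1) (t := A) (f := Φ) fun p hp => (hinv p).2 (Finset.mem_filter.1 hp).2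
  have hlhs : ((Finset.univ : Finset (d.N × CD)).filter fun p => p.2 = 1).card = Nat.card d.N := by
    rw [show ((Finset.univ : Finset (d.N × CD)).filter fun p => p.2 = 1) =
      (Finset.univ : Finset d.N).map ⟨fun x => (x, 1), fun a b h => congrArg Prod.fst h⟩ by
        ext ⟨x, c⟩
        constructor
        · intro h
          exact Finset.mem_map.2 ⟨x, Finset.mem_univ x,
            Prod.ext rfl (Finset.mem_filter.1 h).2.symm⟩
        · intro h
          obtain ⟨a, -, ha⟩ := Finset.mem_map.1 h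
          exact Finset.mem_filter.2 ⟨Finset.mem_univ _, (congrArg Prod.snd ha).symm⟩,
      Finset.card_map, Finset.card_univ, Nat.card_eq_fintype_card]
  rw [← hlhs, hcount, Finset.sum_congr rfl fun x hx => ?_, Finset.sum_const, smul_eq_mul]
  obtain ⟨p₀, hp₀⟩ := GlauCyclic.exists_conj_eq hs hco hCD x
  rw [Finset.filter_filter, Nat.card_eq_fintype_card, ← GlauCyclic.card_fiber_twist hs hco hCD x hp₀]
  congr 1
  ext p
  simp only [Finset.mem_filter, Finset.mem_univ, true_and, ← hΦ]
  exact ⟨fun h => h.2, fun h => ⟨(hinv p).1 (h ▸ hx), h⟩⟩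

end Data

end Cfsg.Agent.KleinBlock
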